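import Mathlib
import Groth.Prelude.Def_Brnch
import Groth.Agent.Hensel.NormRed

/-!
Branches of a localization of a domain through the normalisation of the domain.
-/

set_option autoImplicit false
set_option linter.style.haveILetI false

universe u

open IsLocalRing

namespace Groth.Agent.BranchNorm

section general

variable (A R B N : Type u) [CommRing A] [CommRing R] [IsLocalRing R] [CommRing B] [CommRing N]
  [Algebra A R] [Algebra A B] [Algebra A N] [Algebra R N] [IsScalarTower A R N] [Algebra B N] [IsScalarTower A B N]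
  [Algebra.IsIntegral R N] (p : Ideal A) [p.IsPrime] [IsLocalization.AtPrime R p]
  [IsLocalization (Algebra.algebraMapSubmonoid B p.primeCompl) N]

include R in
theorem comap_maximal_eq (m : Ideal N) [m.IsMaximal] :
    (m.comap (algebraMap B N)).comap (algebraMap A B) = p := by
  rw [Ideal.comap_comap, ← IsScalarTower.algebraMap_eq, IsScalarTower.algebraMap_eq A R N, ← Ideal.comap_comap,
    eq_maximalIdeal (Ideal.isMaximal_comap_of_isIntegral_of_isMaximal (R := R) m)]
  exact IsLocalization.AtPrime.comap_maximalIdeal R p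

include R p in
theorem card_maximalSpectrum :
    ENat.card (MaximalSpectrum N) = ENat.card {P : PrimeSpectrum B // P.asIdeal.comap (algebraMap A B) = p} := by
  refine ENat.card_congr (Equiv.ofBijective
    (fun m => ⟨PrimeSpectrum.comap (algebraMap B N) ⟨m.asIdeal, m.isMaximal.isPrime⟩,
      haveI := m.isMaximal; comap_maximal_eq A R B N p m.asIdeal⟩) ⟨fun m₁ m₂ h => ?_, fun P => ?_⟩)
  · have h1 : m₁.asIdeal.comap (algebraMap B N) = m₂.asIdeal.comap (algebraMap B N) :=
      congrArg (fun z => PrimeSpectrum.asIdeal (Subtype.val z)) h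
    have h2 := congrArg (Ideal.map (algebraMap B N)) h1
    rw [IsLocalization.map_under (Algebra.algebraMapSubmonoid B p.primeCompl) N,
      IsLocalization.map_under (Algebra.algebraMapSubmonoid B p.primeCompl) N] at h2
    exact MaximalSpectrum.ext h2
  · obtain ⟨P, hP⟩ := P
    have hdis : Disjoint (Algebra.algebraMapSubmonoid B p.primeCompl : Set B) P.asIdeal := by
      rw [Set.disjoint_left]
      rintro _ ⟨s, hs, rfl⟩ hsP
      exact hs (hP ▸ hsP)
    have hQ := IsLocalization.isPrime_of_isPrime_disjoint _ N P.asIdeal P.isPrime hdis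
    have hc : (P.asIdeal.map (algebraMap B N)).comap (algebraMap B N) = P.asIdeal :=
      IsLocalization.under_map_of_isPrime_disjoint _ N P.isPrime hdis
    set Q := P.asIdeal.map (algebraMap B N)
    haveI := hQ
    have hmax : Q.IsMaximal := by
      refine Ideal.isMaximal_of_isIntegral_of_isMaximal_comap (R := R) Q ?_
      rw [show Q.comap (algebraMap R N) = maximalIdeal R from ?_]
      · exact maximalIdeal.isMaximal R
      · have h1 : (Q.comap (algebraMap R N)).comap (algebraMap A R) = p := by
          rw [Ideal.comap_comap, ← IsScalarTower.algebraMap_eq, IsScalarTower.algebraMap_eq A B N,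
            ← Ideal.comap_comap, hc, hP]
        have h2 := IsLocalization.map_under p.primeCompl R (Q.comap (algebraMap R N))
        rw [Ideal.under_def, h1] at h2
        rw [← h2, IsLocalization.AtPrime.map_eq_maximalIdeal p R]
    exact ⟨⟨Q, hmax⟩, Subtype.ext (PrimeSpectrum.ext hc)⟩

include p in
omit [IsLocalRing R] [Algebra.IsIntegral R N] in
theorem card_hom {Ω : Type u} [Field Ω] (τ : R →+* Ω) :
    ENat.card {σ : N →+* Ω // σ.comp (algebraMap R N) = τ} =
      ENat.card {σ : B →+* Ω // σ.comp (algebraMap A B) = τ.comp (algebraMap A R)} := by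
  have hu : ∀ σ : {σ : B →+* Ω // σ.comp (algebraMap A B) = τ.comp (algebraMap A R)},
      ∀ y : Algebra.algebraMapSubmonoid B p.primeCompl, IsUnit (σ.1 y) := by
    rintro ⟨σ, hσ⟩ ⟨_, s, hs, rfl⟩
    change IsUnit (σ (algebraMap A B s))
    rw [show σ (algebraMap A B s) = τ (algebraMap A R s) from RingHom.congr_fun hσ s]
    exact (IsLocalization.map_units R (⟨s, hs⟩ : p.primeCompl)).map τ
  refine ENat.card_congr
    { toFun := fun σ => ⟨σ.1.comp (algebraMap B N), by
        rw [RingHom.comp_assoc, ← IsScalarTower.algebraMap_eq, IsScalarTower.algebraMap_eq A R N,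
          ← RingHom.comp_assoc, σ.2]⟩
      invFun := fun σ => ⟨IsLocalization.lift (hu σ), IsLocalization.ringHom_ext p.primeCompl (by
        rw [RingHom.comp_assoc, ← IsScalarTower.algebraMap_eq, IsScalarTower.algebraMap_eq A B N,
          ← RingHom.comp_assoc, IsLocalization.lift_comp, σ.2])⟩
      left_inv := fun σ => Subtype.ext (IsLocalization.ringHom_ext (Algebra.algebraMapSubmonoid B p.primeCompl)
        (IsLocalization.lift_comp _))
      right_inv := fun σ => Subtype.ext (IsLocalization.lift_comp _) }

end general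

/-- Embeddings of residue fields are maps to the algebraic closure. -/
theorem card_sigma_emb (R : Type u) [CommRing R] [IsLocalRing R] :
    ENat.card (Σ m : MaximalSpectrum (CAlg2.normRed R), Brnch.Emb R m) =
      ENat.card {σ : CAlg2.normRed R →+* AlgebraicClosure (ResidueField R) //
        σ.comp (algebraMap R (CAlg2.normRed R)) = Brnch.toClosure R} := by
  haveI := Hensel.isIntegral_normRed R
  refine ENat.card_congr (Equiv.ofBijective
    (fun mσ => ⟨mσ.2.1.comp (Ideal.Quotient.mk mσ.1.asIdeal), mσ.2.2⟩) ⟨?_, fun σ => ?_⟩)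
  · rintro ⟨m₁, σ₁, h₁⟩ ⟨m₂, σ₂, h₂⟩ h
    have h' : σ₁.comp (Ideal.Quotient.mk m₁.asIdeal) = σ₂.comp (Ideal.Quotient.mk m₂.asIdeal) :=
      congrArg Subtype.val h
    haveI := m₁.isMaximal
    haveI := m₂.isMaximal
    letI := Ideal.Quotient.field m₁.asIdeal
    letI := Ideal.Quotient.field m₂.asIdeal
    have hm : m₁ = m₂ := MaximalSpectrum.ext (by
      have := congrArg RingHom.ker h'
      rwa [RingHom.ker_comp_of_injective _ σ₁.injective, RingHom.ker_comp_of_injective _ σ₂.injective,
        Ideal.mk_ker, Ideal.mk_ker] at this)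
    subst hm
    exact Sigma.ext rfl (heq_of_eq (Subtype.ext (Ideal.Quotient.ringHom_ext h')))
  · obtain ⟨σ, hσ⟩ := σ
    haveI : (RingHom.ker σ).IsPrime := RingHom.ker_isPrime σ
    have hmax : (RingHom.ker σ).IsMaximal := by
      refine Ideal.isMaximal_of_isIntegral_of_isMaximal_comap (R := R) _ ?_
      rw [RingHom.comap_ker, hσ, Brnch.toClosure, RingHom.ker_comp_of_injective _ (RingHom.injective _),
        IsLocalRing.ker_residue]
      exact maximalIdeal.isMaximal R
    exact ⟨⟨⟨RingHom.ker σ, hmax⟩, ⟨Ideal.Quotient.lift _ σ (fun a ha => ha), hσ⟩⟩, Subtype.ext rfl⟩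

/-- Branches of the localization of a domain through its normalisation. -/
theorem branches_eq (A : Type u) [CommRing A] [IsDomain A] (p : Ideal A) [p.IsPrime]
    (R : Type u) [CommRing R] [IsLocalRing R] [Algebra A R] [IsLocalization.AtPrime R p]
    (K : Type u) [Field K] [Algebra A K] [IsFractionRing A K]
    (B : Type u) [CommRing B] [Algebra A B] (e : B ≃ₐ[A] integralClosure A K) :
    Brnch.numBranches R = ENat.card {P : PrimeSpectrum B // P.asIdeal.comap (algebraMap A B) = p} ∧
    Brnch.numGeomBranches R = ENat.card {σ : B →+* AlgebraicClosure (ResidueField R) //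
      σ.comp (algebraMap A B) = (Brnch.toClosure R).comp (algebraMap A R)} := by
  haveI : IsDomain R := IsLocalization.isDomain_of_le_nonZeroDivisors R p.primeCompl_le_nonZeroDivisors
  have hfin : (minimalPrimes R).Finite := by
    rw [IsDomain.minimalPrimes_eq_singleton_bot]
    exact Set.finite_singleton _
  have hbot : nilradical R = ⊥ := nilradical_eq_bot_iff.mpr inferInstance
  haveI : IsDomain (CAlg2.red R) := (Ideal.Quotient.isDomain_iff_prime _).mpr (hbot ▸ Ideal.isPrime_bot)
  let ε : R ≃ₐ[A] CAlg2.red R := AlgEquiv.ofBijective (Ideal.Quotient.mkₐ A (nilradical R))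
    ⟨fun x y h => sub_eq_zero.mp (by simpa [hbot] using Ideal.Quotient.eq.mp h), Ideal.Quotient.mk_surjective⟩
  haveI : IsLocalization p.primeCompl (CAlg2.red R) := IsLocalization.isLocalization_of_algEquiv p.primeCompl ε
  let K' := FractionRing (CAlg2.red R)
  haveI : IsScalarTower A (CAlg2.red R) K' := inferInstance
  have hinjR : Function.Injective (algebraMap A (CAlg2.red R)) :=
    IsLocalization.injective (CAlg2.red R) p.primeCompl_le_nonZeroDivisors
  haveI : FaithfulSMul A K' := (faithfulSMul_iff_algebraMap_injective _ _).2 (by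
    rw [IsScalarTower.algebraMap_eq A (CAlg2.red R) K']
    exact (IsFractionRing.injective (CAlg2.red R) K').comp hinjR)
  haveI : IsFractionRing A K' := IsFractionRing.of_field A K' fun z => by
    obtain ⟨x, y, -, rfl⟩ := IsFractionRing.div_surjective (A := CAlg2.red R) z
    obtain ⟨a, s, rfl⟩ := IsLocalization.exists_mk'_eq p.primeCompl x
    obtain ⟨b, t, rfl⟩ := IsLocalization.exists_mk'_eq p.primeCompl y
    refine ⟨a * t, b * s, ?_⟩
    have h0 : ∀ u : p.primeCompl, algebraMap A K' u ≠ 0 := fun u h => u.2 (by
      rw [(faithfulSMul_iff_algebraMap_injective _ _).1 inferInstance (h.trans (map_zero (algebraMap A K')).symm)]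
      exact p.zero_mem)
    have hmk : ∀ (a : A) (s : p.primeCompl), algebraMap (CAlg2.red R) K' (IsLocalization.mk' _ a s) =
        algebraMap A K' a / algebraMap A K' s := fun a s => by
      rw [eq_div_iff (h0 s), IsScalarTower.algebraMap_apply A (CAlg2.red R) K' (s : A), ← map_mul,
        IsLocalization.mk'_spec, ← IsScalarTower.algebraMap_apply]
    rw [hmk, hmk, map_mul, map_mul, div_div_div_eq]
    ring
  let ψ : K ≃ₐ[A] K' := IsFractionRing.algEquivOfAlgEquiv (AlgEquiv.refl : A ≃ₐ[A] A)
  haveI : IsLocalization (Algebra.algebraMapSubmonoid K' p.primeCompl) K' :=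
    IsLocalization.self (by
      rintro _ ⟨s, hs, rfl⟩
      exact isUnit_iff_ne_zero.mpr fun h => hs (by
        rw [IsFractionRing.injective A K' (h.trans (map_zero _).symm)]; exact p.zero_mem))
  let j : integralClosure A K' →+* CAlg2.normRed R :=
    { toFun := fun x => ⟨x.1, x.2.tower_top⟩
      map_one' := rfl
      map_mul' := fun _ _ => rfl
      map_zero' := rfl
      map_add' := fun _ _ => rfl }
  letI : Algebra (integralClosure A K') (CAlg2.normRed R) := j.toAlgebra
  haveI : IsScalarTower (integralClosure A K') (CAlg2.normRed R) K' := IsScalarTower.of_algebraMap_eq fun _ => rfl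
  haveI : IsScalarTower A (integralClosure A K') (CAlg2.normRed R) :=
    IsScalarTower.of_algebraMap_eq fun _ => Subtype.ext rfl
  haveI : IsLocalization (Algebra.algebraMapSubmonoid (integralClosure A K') p.primeCompl) (CAlg2.normRed R) :=
    IsLocalization.integralClosure (Rf := CAlg2.red R) (S := K') (Sf := K') p.primeCompl
  let e' : B ≃ₐ[A] integralClosure A K' := e.trans ψ.mapIntegralClosure
  let C := integralClosure A K'
  let τ := (Brnch.toClosure R).comp (algebraMap A R)
  have hc : ∀ a, e' (algebraMap A B a) = algebraMap A C a := e'.commutes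
  have hP : ENat.card {P : PrimeSpectrum C // P.asIdeal.comap (algebraMap A C) = p} =
      ENat.card {P : PrimeSpectrum B // P.asIdeal.comap (algebraMap A B) = p} :=
    ENat.card_congr ((PrimeSpectrum.comapEquiv e'.symm.toRingEquiv).toEquiv.subtypeEquiv fun P => by
      rw [show algebraMap A B = e'.symm.toAlgHom.toRingHom.comp (algebraMap A C) from
        e'.symm.toAlgHom.comp_algebraMap.symm, ← Ideal.comap_comap]
      rw [show ((PrimeSpectrum.comapEquiv e'.symm.toRingEquiv).toEquiv P).asIdeal.comap e'.symm.toAlgHom.toRingHom = P.asIdeal from ?_]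
      ext c
      simp [PrimeSpectrum.comapEquiv])
  have hσ : ENat.card {σ : C →+* AlgebraicClosure (ResidueField R) // σ.comp (algebraMap A C) = τ} =
      ENat.card {σ : B →+* AlgebraicClosure (ResidueField R) // σ.comp (algebraMap A B) = τ} :=
    ENat.card_congr
      { toFun := fun σ => ⟨σ.1.comp e'.toAlgHom.toRingHom, by
          rw [RingHom.comp_assoc, e'.toAlgHom.toRingHom_eq_coe, e'.toAlgHom.comp_algebraMap, σ.2]⟩
        invFun := fun σ => ⟨σ.1.comp e'.symm.toAlgHom.toRingHom, by
          rw [RingHom.comp_assoc, e'.symm.toAlgHom.toRingHom_eq_coe, e'.symm.toAlgHom.comp_algebraMap, σ.2]⟩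
        left_inv := fun σ => Subtype.ext (RingHom.ext fun x => congrArg σ.1 (e'.apply_symm_apply x))
        right_inv := fun σ => Subtype.ext (RingHom.ext fun x => congrArg σ.1 (e'.symm_apply_apply x)) }
  haveI := Hensel.isIntegral_normRed R
  unfold Brnch.numBranches Brnch.numGeomBranches
  rw [if_pos hfin, if_pos hfin, card_sigma_emb R]
  exact ⟨(card_maximalSpectrum A R C (CAlg2.normRed R) p).trans hP,
    (card_hom A R C (CAlg2.normRed R) p (Brnch.toClosure R)).trans hσ⟩

end Groth.Agent.BranchNorm
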