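import Mathlib.Topology.Instances.ENat
import Mathlib.Topology.Algebra.InfiniteSum.Order
import Groth.Agent.Hensel.BranchMore

/-!
Cardinality of a sigma type as a sum in the extended natural numbers.
-/

set_option autoImplicit false

universe u

namespace Groth.Agent.BranchNorm

theorem card_sigma_eq_tsum {ι : Type u} (β : ι → Type u) (hne : Infinite ι → ∀ i, Nonempty (β i)) :
    ENat.card (Σ i, β i) = ∑' i, ENat.card (β i) := by
  classical
  cases finite_or_infinite ι with
  | inl h =>
    haveI := Fintype.ofFinite ι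
    rw [tsum_fintype, Hensel.eNat_card_sigma]
  | inr h =>
    have b := hne h
    haveI : Infinite (Σ i, β i) := Infinite.of_injective (fun i => (⟨i, (b i).some⟩ : Σ i, β i))
      fun i j hij => congrArg Sigma.fst hij
    rw [ENat.card_eq_top_of_infinite]
    symm
    refine HasSum.tsum_eq (hasSum_of_isLUB _ ⟨fun _ _ => le_top, fun y hy => ?_⟩)
    by_contra hlt
    obtain ⟨n, rfl⟩ := ENat.ne_top_iff_exists.mp (fun h' => hlt h'.ge)
    obtain ⟨s, hs⟩ := Infinite.exists_subset_card_eq ι (n + 1)
    have h1 : (s.card : ℕ∞) ≤ ∑ i ∈ s, ENat.card (β i) := by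
      rw [Finset.card_eq_sum_ones, Nat.cast_sum]
      exact Finset.sum_le_sum fun i _ => by
        haveI := b i
        exact_mod_cast (ENat.one_le_card_iff_nonempty (β i)).mpr (b i)
    have h2 := h1.trans (hy ⟨s, rfl⟩)
    rw [hs] at h2
    have : n + 1 ≤ n := by exact_mod_cast h2
    omega

end Groth.Agent.BranchNorm
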