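import Mathlib
import Groth.Agent.BranchNorm.Count

/-!
Points and geometric points of fibres of integral morphisms.
-/

set_option autoImplicit false
set_option linter.style.haveILetI false

universe u

open CategoryTheory AlgebraicGeometry IsLocalRing

namespace Groth.Agent.BranchNorm

variable {X Y : Scheme.{u}} (ν : Y ⟶ X)

/-- Residue field extensions of an integral morphism are algebraic. -/
theorem isIntegral_residueFieldMap [IsIntegralHom ν] (y : Y) : (ν.residueFieldMap y).hom.IsIntegral := by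
  obtain ⟨U, hU, hyU, -⟩ := exists_isAffineOpen_mem_and_subset (U := (⊤ : X.Opens)) (x := ν y) trivial
  have hV : IsAffineOpen (ν ⁻¹ᵁ U) := hU.preimage ν
  let ev := (Y.evaluation (ν ⁻¹ᵁ U) y hyU).hom
  have hev : ∀ c, (ν.residueFieldMap y).hom.IsIntegralElem (ev c) := fun c => by
    obtain ⟨P, hP, hPc⟩ := ν.isIntegral_app U hU c
    refine ⟨P.map (X.evaluation U (ν y) hyU).hom, hP.map _, ?_⟩
    rw [Polynomial.eval₂_map, show (ν.residueFieldMap y).hom.comp (X.evaluation U (ν y) hyU).hom = ev.comp (ν.app U).hom from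
      congrArg CommRingCat.Hom.hom (Scheme.evaluation_naturality ν y hyU), ← Polynomial.hom_eval₂, hPc, map_zero]
  intro r
  obtain ⟨s, rfl⟩ := Ideal.Quotient.mk_surjective r
  letI := TopCat.Presheaf.algebra_section_stalk Y.presheaf (⟨y, hyU⟩ : (ν ⁻¹ᵁ U : Y.Opens))
  haveI := hV.isLocalization_stalk ⟨y, hyU⟩
  obtain ⟨⟨a, t⟩, ht⟩ := IsLocalization.surj (hV.primeIdealOf ⟨y, hyU⟩).asIdeal.primeCompl s
  have htne : ev t.1 ≠ 0 :=
    (IsLocalRing.residue_ne_zero_iff_isUnit _).mpr (IsLocalization.map_units (Y.presheaf.stalk y) t)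
  have hst : (Y.residue y).hom s * ev t.1 = ev a := (map_mul (Y.residue y).hom _ _).symm.trans (congrArg (Y.residue y).hom ht)
  letI := (ν.residueFieldMap y).hom.toAlgebra
  have ha : IsAlgebraic (X.residueField (ν y)) (ev a) := IsIntegral.isAlgebraic (hev a)
  have hb : IsAlgebraic (X.residueField (ν y)) (ev t.1) := IsIntegral.isAlgebraic (hev t.1)
  change (ν.residueFieldMap y).hom.IsIntegralElem ((Y.residue y).hom s)
  rw [show (Y.residue y).hom s = ev a * (ev t.1)⁻¹ by rw [← hst, mul_assoc, mul_inv_cancel₀ htne, mul_one]]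
  exact (ha.mul hb.inv).isIntegral

/-- The canonical geometric point over `x`. -/
noncomputable def geomPt (x : X) : Spec (CommRingCat.of (AlgebraicClosure (X.residueField x))) ⟶ X :=
  Spec.map (CommRingCat.ofHom (algebraMap (X.residueField x) (AlgebraicClosure (X.residueField x)))) ≫
    X.fromSpecResidueField x

theorem geomPt_apply (x : X) (z : Spec (CommRingCat.of (AlgebraicClosure (X.residueField x)))) : geomPt x z = x := by
  rw [geomPt, Scheme.Hom.comp_apply]
  exact Scheme.fromSpecResidueField_apply _ _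

theorem card_liftsAt [IsIntegralHom ν] (x : X) (y : Y) (hy : ν y = x) :
    ENat.card {φ : Y.residueField y ⟶ CommRingCat.of (AlgebraicClosure (X.residueField x)) //
      (Spec.map φ ≫ Y.fromSpecResidueField y) ≫ ν = geomPt x} =
    (letI := (ν.residueFieldMap y).hom.toAlgebra
     ENat.card (Field.Emb (X.residueField (ν y)) (Y.residueField y))) := by
  subst hy
  letI := (ν.residueFieldMap y).hom.toAlgebra
  haveI : Algebra.IsIntegral (X.residueField (ν y)) (Y.residueField y) := ⟨isIntegral_residueFieldMap ν y⟩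
  haveI : Algebra.IsAlgebraic (X.residueField (ν y)) (Y.residueField y) := Algebra.IsIntegral.isAlgebraic
  let Ω := AlgebraicClosure (X.residueField (ν y))
  have key : ∀ φ : Y.residueField y ⟶ CommRingCat.of Ω, (Spec.map φ ≫ Y.fromSpecResidueField y) ≫ ν = geomPt (ν y) ↔
      φ.hom.comp (ν.residueFieldMap y).hom = algebraMap (X.residueField (ν y)) Ω := fun φ => by
    rw [Category.assoc, ← Scheme.Hom.SpecMap_residueFieldMap_fromSpecResidueField, geomPt, ← Spec.map_comp_assoc,
      cancel_mono, Spec.map_inj]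
    exact ⟨fun h => congrArg CommRingCat.Hom.hom h, fun h => CommRingCat.hom_ext h⟩
  rw [ENat.card_congr (Field.embEquivOfIsAlgClosed (X.residueField (ν y)) (Y.residueField y) Ω)]
  exact ENat.card_congr
    { toFun := fun φ => { φ.1.hom with commutes' := fun r => RingHom.congr_fun ((key φ.1).1 φ.2) r }
      invFun := fun ψ => ⟨CommRingCat.ofHom ψ.toRingHom, (key _).2 (RingHom.ext ψ.commutes)⟩
      left_inv := fun _ => rfl
      right_inv := fun _ => rfl }

/-- Lifts of the geometric point over `x` counted by residue fields. -/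
theorem card_lifts [IsIntegralHom ν] (x : X) :
    ENat.card {q : Spec (CommRingCat.of (AlgebraicClosure (X.residueField x))) ⟶ Y // q ≫ ν = geomPt x} =
      ∑' y : {y : Y // ν.base y = x}, (letI := (ν.residueFieldMap y.1).hom.toAlgebra
        ENat.card (Field.Emb (X.residueField (ν.base y.1)) (Y.residueField y.1))) := by
  let Ω := AlgebraicClosure (X.residueField x)
  let β := fun y : {y : Y // ν.base y = x} => {φ : Y.residueField y.1 ⟶ CommRingCat.of Ω //
    (Spec.map φ ≫ Y.fromSpecResidueField y.1) ≫ ν = geomPt x}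
  let E := Scheme.SpecToEquivOfField Ω Y
  let G : (Σ y, β y) → {q : Spec (CommRingCat.of Ω) ⟶ Y // q ≫ ν = geomPt x} :=
    fun s => ⟨E.symm ⟨s.1.1, s.2.1⟩, s.2.2⟩
  have hG : Function.Bijective G := by
    refine ⟨?_, fun q => ?_⟩
    · rintro ⟨⟨y₁, h₁⟩, φ₁, k₁⟩ ⟨⟨y₂, h₂⟩, φ₂, k₂⟩ h
      have h' := E.symm.injective (congrArg Subtype.val h)
      cases h'
      rfl
    · obtain ⟨q, hq⟩ := q
      obtain ⟨⟨y, φ⟩, rfl⟩ := E.symm.surjective q
      have hy : ν.base y = x := by
        have := congrArg (fun m : _ ⟶ X => m (closedPoint Ω)) hq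
        change ν ((Spec.map φ ≫ Y.fromSpecResidueField y) (closedPoint Ω)) = geomPt x _ at this
        rw [geomPt_apply, Scheme.Hom.comp_apply, Scheme.fromSpecResidueField_apply] at this
        exact this
      exact ⟨⟨⟨y, hy⟩, φ, hq⟩, rfl⟩
  rw [← ENat.card_congr (Equiv.ofBijective G hG),
    card_sigma_eq_tsum β fun _ y => ?_]
  · exact tsum_congr fun y => card_liftsAt ν x y.1 y.2
  · obtain ⟨y, rfl⟩ := y
    letI := (ν.residueFieldMap y).hom.toAlgebra
    haveI : Algebra.IsIntegral (X.residueField (ν y)) (Y.residueField y) := ⟨isIntegral_residueFieldMap ν y⟩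
    haveI : Algebra.IsAlgebraic (X.residueField (ν y)) (Y.residueField y) := Algebra.IsIntegral.isAlgebraic
    let ψ : Y.residueField y →ₐ[X.residueField (ν y)] AlgebraicClosure (X.residueField (ν y)) := IsAlgClosed.lift
    refine ⟨⟨CommRingCat.ofHom ψ.toRingHom, ?_⟩⟩
    rw [Category.assoc, ← Scheme.Hom.SpecMap_residueFieldMap_fromSpecResidueField, geomPt, ← Spec.map_comp_assoc]
    exact congrArg (fun m => Spec.map m ≫ _) (CommRingCat.hom_ext (RingHom.ext ψ.commutes))

variable {U : X.Opens} (hU : IsAffineOpen U) {x : X} (hx : x ∈ U) (B : CommRingCat.{u}) (φ : Γ(X, U) ⟶ B)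
  (f : Spec B ⟶ Y) [IsOpenImmersion f] (hf : f ≫ ν = Spec.map φ ≫ hU.fromSpec) (hrange : ν ⁻¹ᵁ U = f.opensRange)

include hf hrange in
/-- Points over `x` in an affine chart. -/
theorem card_points_chart :
    ENat.card {y : Y // ν.base y = x} =
      ENat.card {P : PrimeSpectrum B // P.asIdeal.comap φ.hom = (hU.primeIdealOf ⟨x, hx⟩).asIdeal} := by
  have hkey : ∀ P : PrimeSpectrum B, ν (f P) = x ↔ P.asIdeal.comap φ.hom = (hU.primeIdealOf ⟨x, hx⟩).asIdeal := fun P => by
    rw [← Scheme.Hom.comp_apply, hf, Scheme.Hom.comp_apply]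
    refine Iff.trans ⟨fun h => hU.fromSpec.isOpenEmbedding.injective (h.trans (hU.fromSpec_primeIdealOf ⟨x, hx⟩).symm),
      fun h => (congrArg hU.fromSpec h).trans (hU.fromSpec_primeIdealOf ⟨x, hx⟩)⟩ PrimeSpectrum.ext_iff
  refine (ENat.card_congr (Equiv.ofBijective (fun P => ⟨f P.1, (hkey P.1).2 P.2⟩) ⟨fun P Q h => ?_, fun y => ?_⟩)).symm
  · exact Subtype.ext (f.isOpenEmbedding.injective (congrArg Subtype.val h))
  · obtain ⟨y, rfl⟩ := y
    obtain ⟨P, hP⟩ : y ∈ f.opensRange := hrange ▸ hx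
    exact ⟨⟨P, (hkey P).1 (by rw [hP])⟩, Subtype.ext hP⟩

include hf hrange in
/-- Lifts of the geometric point over `x` in an affine chart. -/
theorem card_lifts_chart :
    ENat.card {q : Spec (CommRingCat.of (AlgebraicClosure (X.residueField x))) ⟶ Y // q ≫ ν = geomPt x} =
      ENat.card {σ : B →+* AlgebraicClosure (X.residueField x) // σ.comp φ.hom =
        ((algebraMap (X.residueField x) (AlgebraicClosure (X.residueField x))).comp (X.residue x).hom).comp
          (X.presheaf.germ U x hx).hom} := by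
  let Ω := AlgebraicClosure (X.residueField x)
  let τ : Γ(X, U) ⟶ CommRingCat.of Ω :=
    X.presheaf.germ U x hx ≫ X.residue x ≫ CommRingCat.ofHom (algebraMap (X.residueField x) Ω)
  have hgeom : geomPt x = Spec.map τ ≫ hU.fromSpec := by
    rw [geomPt, Scheme.fromSpecResidueField, ← hU.fromSpecStalk_eq_fromSpecStalk hx, IsAffineOpen.fromSpecStalk]
    simp only [τ, Spec.map_comp, Category.assoc]
    rfl
  have hkey : ∀ σ : B ⟶ CommRingCat.of Ω, (Spec.map σ ≫ f) ≫ ν = geomPt x ↔ φ ≫ σ = τ := fun σ => by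
    rw [Category.assoc, hf, hgeom, ← Spec.map_comp_assoc, cancel_mono, Spec.map_inj]
  refine (ENat.card_congr (Equiv.ofBijective
    (fun σ => ⟨Spec.map (CommRingCat.ofHom σ.1) ≫ f, (hkey _).2 (CommRingCat.hom_ext σ.2)⟩) ⟨fun σ σ' h => ?_, fun q => ?_⟩)).symm
  · have h1 : Spec.map (CommRingCat.ofHom σ.1) = Spec.map (CommRingCat.ofHom σ'.1) :=
      (cancel_mono f).1 (congrArg Subtype.val h)
    exact Subtype.ext (congrArg CommRingCat.Hom.hom (Spec.map_injective h1))
  · obtain ⟨q, hq⟩ := q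
    have hr : Set.range q ⊆ Set.range f := by
      rintro _ ⟨z, rfl⟩
      have h1 : ν (q z) = x := by rw [← Scheme.Hom.comp_apply, hq, geomPt_apply]
      have : q z ∈ ν ⁻¹ᵁ U := show ν (q z) ∈ U by rw [h1]; exact hx
      rw [hrange] at this
      exact this
    obtain ⟨σ, hσ⟩ := Spec.map_surjective (IsOpenImmersion.lift f q hr)
    have hq' : Spec.map σ ≫ f = q := by rw [hσ, IsOpenImmersion.lift_fac]
    exact ⟨⟨σ.hom, congrArg CommRingCat.Hom.hom ((hkey σ).1 (by rw [hq', hq]))⟩, Subtype.ext hq'⟩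

end Groth.Agent.BranchNorm
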