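import Groth.Agent.BranchNorm.Algebra
import Groth.Agent.BranchNorm.Scheme
import Groth.Agent.CurveNorm.Basic
import Groth.Prelude.Def_Curv2

/-!
Branches and geometric branches of an integral scheme through its normalisation.
-/

set_option autoImplicit false
set_option linter.style.haveILetI false

universe u

open CategoryTheory AlgebraicGeometry

namespace Groth.Agent.BranchNorm

theorem branches_normalization (X : Scheme.{u}) [IsIntegral X]
    [QuasiCompact (X.fromSpecStalk (genericPoint X))] [QuasiSeparated (X.fromSpecStalk (genericPoint X))]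
    (x : X) :
    Brnch.numBranchesAt X x =
        ENat.card {x' : ↥(Curv2.normalization X) // (Curv2.normalizationι X).base x' = x} ∧
      Brnch.numGeomBranchesAt X x =
        ENat.card {q : Spec (CommRingCat.of (AlgebraicClosure (X.residueField x))) ⟶ Curv2.normalization X //
          q ≫ Curv2.normalizationι X = geomPt x} := by
  let g := X.fromSpecStalk (genericPoint X)
  obtain ⟨U, hU, hxU, -⟩ := exists_isAffineOpen_mem_and_subset (U := (⊤ : X.Opens)) (x := x) trivial
  haveI : Nonempty U := ⟨⟨x, hxU⟩⟩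
  letI := (g.app U).hom.toAlgebra
  obtain ⟨e, he⟩ := Groth.Agent.CurveNorm.exists_equiv (RingHom.id X.functionField) g (by simp [g]) U
  haveI := functionField_isFractionRing_of_isAffineOpen X U hU
  let ψ : Γ(Spec (X.presheaf.stalk (genericPoint X)), g ⁻¹ᵁ U) ≃ₐ[Γ(X, U)] X.functionField :=
    AlgEquiv.ofRingEquiv (f := e.commRingCatIsoToRingEquiv) fun a => congrArg (fun h => h.hom a) he
  letI := TopCat.Presheaf.algebra_section_stalk X.presheaf (⟨x, hxU⟩ : U)
  haveI : IsLocalization.AtPrime (X.presheaf.stalk x) (hU.primeIdealOf ⟨x, hxU⟩).asIdeal :=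
    hU.isLocalization_stalk ⟨x, hxU⟩
  obtain ⟨h1, h2⟩ := branches_eq Γ(X, U) (hU.primeIdealOf ⟨x, hxU⟩).asIdeal (X.presheaf.stalk x) X.functionField
    (integralClosure Γ(X, U) Γ(Spec (X.presheaf.stalk (genericPoint X)), g ⁻¹ᵁ U)) ψ.mapIntegralClosure
  have hf := g.ι_fromNormalization ⟨U, hU⟩
  have hr := g.fromNormalization_preimage ⟨U, hU⟩
  let f₀ : Spec (g.normalizationDiagram.obj (.op U)) ⟶ g.normalization := g.normalizationOpenCover.f ⟨U, hU⟩
  haveI : IsOpenImmersion f₀ := g.normalizationOpenCover.map_prop ⟨U, hU⟩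
  exact ⟨h1.trans (card_points_chart g.fromNormalization hU hxU _ (g.normalizationDiagramMap.app (.op U)) f₀ hf hr).symm,
    h2.trans (card_lifts_chart g.fromNormalization hU hxU _ (g.normalizationDiagramMap.app (.op U)) f₀ hf hr).symm⟩

end Groth.Agent.BranchNorm
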